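import Cfsg.Agent.H29.CosetCert.Fi22Order.L0S0
import Cfsg.Agent.H29.CosetCert.Fi22Order.L0S1
import Cfsg.Agent.H29.CosetCert.Fi22Order.L0S2
import Cfsg.Agent.H29.CosetCert.Fi22Order.L0S3
import Cfsg.Agent.H29.CosetCert.Fi22Order.L0S4
import Cfsg.Agent.H29.CosetCert.Fi22Order.L0S5
import Cfsg.Agent.H29.CosetCert.Fi22Order.L0S6
import Cfsg.Agent.H29.CosetCert.Fi22Order.L0S7

/-! Certificate data for the order of Fi22, produced outside Lean and checked here. -/

set_option autoImplicit false
set_option maxRecDepth 16000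
set_option Elab.async false

namespace H29.CosetCert.Fi22Lvl0

open H29.CosetCert

theorem deds : ∀ k, lvl.nd ≤ k → k < lvl.N → ∃ s, chkDed lvl.F lvl.R lvl.S k s = true := by
  intro k h1 h2
  change 8050 ≤ k at h1
  change k < 31631 at h2
  by_cases c0 : k < 8306
  · exact chkList_get _ _ _ st0 8050 st0_ok.1 k (by omega) (by rw [st0_ok.2]; omega)
  by_cases c1 : k < 8562
  · exact chkList_get _ _ _ st1 8306 st1_ok.1 k (by omega) (by rw [st1_ok.2]; omega)
  by_cases c2 : k < 8818
  · exact chkList_get _ _ _ st2 8562 st2_ok.1 k (by omega) (by rw [st2_ok.2]; omega)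
  by_cases c3 : k < 9074
  · exact chkList_get _ _ _ st3 8818 st3_ok.1 k (by omega) (by rw [st3_ok.2]; omega)
  by_cases c4 : k < 9330
  · exact chkList_get _ _ _ st4 9074 st4_ok.1 k (by omega) (by rw [st4_ok.2]; omega)
  by_cases c5 : k < 9586
  · exact chkList_get _ _ _ st5 9330 st5_ok.1 k (by omega) (by rw [st5_ok.2]; omega)
  by_cases c6 : k < 9842
  · exact chkList_get _ _ _ st6 9586 st6_ok.1 k (by omega) (by rw [st6_ok.2]; omega)
  by_cases c7 : k < 10098
  · exact chkList_get _ _ _ st7 9842 st7_ok.1 k (by omega) (by rw [st7_ok.2]; omega)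
  by_cases c8 : k < 10354
  · exact chkList_get _ _ _ st8 10098 st8_ok.1 k (by omega) (by rw [st8_ok.2]; omega)
  by_cases c9 : k < 10610
  · exact chkList_get _ _ _ st9 10354 st9_ok.1 k (by omega) (by rw [st9_ok.2]; omega)
  by_cases c10 : k < 10866
  · exact chkList_get _ _ _ st10 10610 st10_ok.1 k (by omega) (by rw [st10_ok.2]; omega)
  by_cases c11 : k < 11122
  · exact chkList_get _ _ _ st11 10866 st11_ok.1 k (by omega) (by rw [st11_ok.2]; omega)
  by_cases c12 : k < 11378
  · exact chkList_get _ _ _ st12 11122 st12_ok.1 k (by omega) (by rw [st12_ok.2]; omega)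
  by_cases c13 : k < 11634
  · exact chkList_get _ _ _ st13 11378 st13_ok.1 k (by omega) (by rw [st13_ok.2]; omega)
  by_cases c14 : k < 11890
  · exact chkList_get _ _ _ st14 11634 st14_ok.1 k (by omega) (by rw [st14_ok.2]; omega)
  by_cases c15 : k < 12146
  · exact chkList_get _ _ _ st15 11890 st15_ok.1 k (by omega) (by rw [st15_ok.2]; omega)
  by_cases c16 : k < 12402
  · exact chkList_get _ _ _ st16 12146 st16_ok.1 k (by omega) (by rw [st16_ok.2]; omega)
  by_cases c17 : k < 12658
  · exact chkList_get _ _ _ st17 12402 st17_ok.1 k (by omega) (by rw [st17_ok.2]; omega)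
  by_cases c18 : k < 12914
  · exact chkList_get _ _ _ st18 12658 st18_ok.1 k (by omega) (by rw [st18_ok.2]; omega)
  by_cases c19 : k < 13170
  · exact chkList_get _ _ _ st19 12914 st19_ok.1 k (by omega) (by rw [st19_ok.2]; omega)
  by_cases c20 : k < 13426
  · exact chkList_get _ _ _ st20 13170 st20_ok.1 k (by omega) (by rw [st20_ok.2]; omega)
  by_cases c21 : k < 13682
  · exact chkList_get _ _ _ st21 13426 st21_ok.1 k (by omega) (by rw [st21_ok.2]; omega)
  by_cases c22 : k < 13938
  · exact chkList_get _ _ _ st22 13682 st22_ok.1 k (by omega) (by rw [st22_ok.2]; omega)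
  by_cases c23 : k < 14194
  · exact chkList_get _ _ _ st23 13938 st23_ok.1 k (by omega) (by rw [st23_ok.2]; omega)
  by_cases c24 : k < 14450
  · exact chkList_get _ _ _ st24 14194 st24_ok.1 k (by omega) (by rw [st24_ok.2]; omega)
  by_cases c25 : k < 14706
  · exact chkList_get _ _ _ st25 14450 st25_ok.1 k (by omega) (by rw [st25_ok.2]; omega)
  by_cases c26 : k < 14962
  · exact chkList_get _ _ _ st26 14706 st26_ok.1 k (by omega) (by rw [st26_ok.2]; omega)
  by_cases c27 : k < 15218
  · exact chkList_get _ _ _ st27 14962 st27_ok.1 k (by omega) (by rw [st27_ok.2]; omega)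
  by_cases c28 : k < 15474
  · exact chkList_get _ _ _ st28 15218 st28_ok.1 k (by omega) (by rw [st28_ok.2]; omega)
  by_cases c29 : k < 15730
  · exact chkList_get _ _ _ st29 15474 st29_ok.1 k (by omega) (by rw [st29_ok.2]; omega)
  by_cases c30 : k < 15986
  · exact chkList_get _ _ _ st30 15730 st30_ok.1 k (by omega) (by rw [st30_ok.2]; omega)
  by_cases c31 : k < 16242
  · exact chkList_get _ _ _ st31 15986 st31_ok.1 k (by omega) (by rw [st31_ok.2]; omega)
  by_cases c32 : k < 16498
  · exact chkList_get _ _ _ st32 16242 st32_ok.1 k (by omega) (by rw [st32_ok.2]; omega)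
  by_cases c33 : k < 16754
  · exact chkList_get _ _ _ st33 16498 st33_ok.1 k (by omega) (by rw [st33_ok.2]; omega)
  by_cases c34 : k < 17010
  · exact chkList_get _ _ _ st34 16754 st34_ok.1 k (by omega) (by rw [st34_ok.2]; omega)
  by_cases c35 : k < 17266
  · exact chkList_get _ _ _ st35 17010 st35_ok.1 k (by omega) (by rw [st35_ok.2]; omega)
  by_cases c36 : k < 17522
  · exact chkList_get _ _ _ st36 17266 st36_ok.1 k (by omega) (by rw [st36_ok.2]; omega)
  by_cases c37 : k < 17778
  · exact chkList_get _ _ _ st37 17522 st37_ok.1 k (by omega) (by rw [st37_ok.2]; omega)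
  by_cases c38 : k < 18034
  · exact chkList_get _ _ _ st38 17778 st38_ok.1 k (by omega) (by rw [st38_ok.2]; omega)
  by_cases c39 : k < 18290
  · exact chkList_get _ _ _ st39 18034 st39_ok.1 k (by omega) (by rw [st39_ok.2]; omega)
  by_cases c40 : k < 18546
  · exact chkList_get _ _ _ st40 18290 st40_ok.1 k (by omega) (by rw [st40_ok.2]; omega)
  by_cases c41 : k < 18802
  · exact chkList_get _ _ _ st41 18546 st41_ok.1 k (by omega) (by rw [st41_ok.2]; omega)
  by_cases c42 : k < 19058
  · exact chkList_get _ _ _ st42 18802 st42_ok.1 k (by omega) (by rw [st42_ok.2]; omega)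
  by_cases c43 : k < 19314
  · exact chkList_get _ _ _ st43 19058 st43_ok.1 k (by omega) (by rw [st43_ok.2]; omega)
  by_cases c44 : k < 19570
  · exact chkList_get _ _ _ st44 19314 st44_ok.1 k (by omega) (by rw [st44_ok.2]; omega)
  by_cases c45 : k < 19826
  · exact chkList_get _ _ _ st45 19570 st45_ok.1 k (by omega) (by rw [st45_ok.2]; omega)
  by_cases c46 : k < 20082
  · exact chkList_get _ _ _ st46 19826 st46_ok.1 k (by omega) (by rw [st46_ok.2]; omega)
  by_cases c47 : k < 20338
  · exact chkList_get _ _ _ st47 20082 st47_ok.1 k (by omega) (by rw [st47_ok.2]; omega)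
  by_cases c48 : k < 20594
  · exact chkList_get _ _ _ st48 20338 st48_ok.1 k (by omega) (by rw [st48_ok.2]; omega)
  by_cases c49 : k < 20850
  · exact chkList_get _ _ _ st49 20594 st49_ok.1 k (by omega) (by rw [st49_ok.2]; omega)
  by_cases c50 : k < 21106
  · exact chkList_get _ _ _ st50 20850 st50_ok.1 k (by omega) (by rw [st50_ok.2]; omega)
  by_cases c51 : k < 21362
  · exact chkList_get _ _ _ st51 21106 st51_ok.1 k (by omega) (by rw [st51_ok.2]; omega)
  by_cases c52 : k < 21618
  · exact chkList_get _ _ _ st52 21362 st52_ok.1 k (by omega) (by rw [st52_ok.2]; omega)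
  by_cases c53 : k < 21874
  · exact chkList_get _ _ _ st53 21618 st53_ok.1 k (by omega) (by rw [st53_ok.2]; omega)
  by_cases c54 : k < 22130
  · exact chkList_get _ _ _ st54 21874 st54_ok.1 k (by omega) (by rw [st54_ok.2]; omega)
  by_cases c55 : k < 22386
  · exact chkList_get _ _ _ st55 22130 st55_ok.1 k (by omega) (by rw [st55_ok.2]; omega)
  by_cases c56 : k < 22642
  · exact chkList_get _ _ _ st56 22386 st56_ok.1 k (by omega) (by rw [st56_ok.2]; omega)
  by_cases c57 : k < 22898
  · exact chkList_get _ _ _ st57 22642 st57_ok.1 k (by omega) (by rw [st57_ok.2]; omega)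
  by_cases c58 : k < 23154
  · exact chkList_get _ _ _ st58 22898 st58_ok.1 k (by omega) (by rw [st58_ok.2]; omega)
  by_cases c59 : k < 23410
  · exact chkList_get _ _ _ st59 23154 st59_ok.1 k (by omega) (by rw [st59_ok.2]; omega)
  by_cases c60 : k < 23666
  · exact chkList_get _ _ _ st60 23410 st60_ok.1 k (by omega) (by rw [st60_ok.2]; omega)
  by_cases c61 : k < 23922
  · exact chkList_get _ _ _ st61 23666 st61_ok.1 k (by omega) (by rw [st61_ok.2]; omega)
  by_cases c62 : k < 24178
  · exact chkList_get _ _ _ st62 23922 st62_ok.1 k (by omega) (by rw [st62_ok.2]; omega)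
  by_cases c63 : k < 24434
  · exact chkList_get _ _ _ st63 24178 st63_ok.1 k (by omega) (by rw [st63_ok.2]; omega)
  by_cases c64 : k < 24690
  · exact chkList_get _ _ _ st64 24434 st64_ok.1 k (by omega) (by rw [st64_ok.2]; omega)
  by_cases c65 : k < 24946
  · exact chkList_get _ _ _ st65 24690 st65_ok.1 k (by omega) (by rw [st65_ok.2]; omega)
  by_cases c66 : k < 25202
  · exact chkList_get _ _ _ st66 24946 st66_ok.1 k (by omega) (by rw [st66_ok.2]; omega)
  by_cases c67 : k < 25458
  · exact chkList_get _ _ _ st67 25202 st67_ok.1 k (by omega) (by rw [st67_ok.2]; omega)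
  by_cases c68 : k < 25714
  · exact chkList_get _ _ _ st68 25458 st68_ok.1 k (by omega) (by rw [st68_ok.2]; omega)
  by_cases c69 : k < 25970
  · exact chkList_get _ _ _ st69 25714 st69_ok.1 k (by omega) (by rw [st69_ok.2]; omega)
  by_cases c70 : k < 26226
  · exact chkList_get _ _ _ st70 25970 st70_ok.1 k (by omega) (by rw [st70_ok.2]; omega)
  by_cases c71 : k < 26482
  · exact chkList_get _ _ _ st71 26226 st71_ok.1 k (by omega) (by rw [st71_ok.2]; omega)
  by_cases c72 : k < 26738
  · exact chkList_get _ _ _ st72 26482 st72_ok.1 k (by omega) (by rw [st72_ok.2]; omega)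
  by_cases c73 : k < 26994
  · exact chkList_get _ _ _ st73 26738 st73_ok.1 k (by omega) (by rw [st73_ok.2]; omega)
  by_cases c74 : k < 27250
  · exact chkList_get _ _ _ st74 26994 st74_ok.1 k (by omega) (by rw [st74_ok.2]; omega)
  by_cases c75 : k < 27506
  · exact chkList_get _ _ _ st75 27250 st75_ok.1 k (by omega) (by rw [st75_ok.2]; omega)
  by_cases c76 : k < 27762
  · exact chkList_get _ _ _ st76 27506 st76_ok.1 k (by omega) (by rw [st76_ok.2]; omega)
  by_cases c77 : k < 28018
  · exact chkList_get _ _ _ st77 27762 st77_ok.1 k (by omega) (by rw [st77_ok.2]; omega)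
  by_cases c78 : k < 28274
  · exact chkList_get _ _ _ st78 28018 st78_ok.1 k (by omega) (by rw [st78_ok.2]; omega)
  by_cases c79 : k < 28530
  · exact chkList_get _ _ _ st79 28274 st79_ok.1 k (by omega) (by rw [st79_ok.2]; omega)
  by_cases c80 : k < 28786
  · exact chkList_get _ _ _ st80 28530 st80_ok.1 k (by omega) (by rw [st80_ok.2]; omega)
  by_cases c81 : k < 29042
  · exact chkList_get _ _ _ st81 28786 st81_ok.1 k (by omega) (by rw [st81_ok.2]; omega)
  by_cases c82 : k < 29298
  · exact chkList_get _ _ _ st82 29042 st82_ok.1 k (by omega) (by rw [st82_ok.2]; omega)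
  by_cases c83 : k < 29554
  · exact chkList_get _ _ _ st83 29298 st83_ok.1 k (by omega) (by rw [st83_ok.2]; omega)
  by_cases c84 : k < 29810
  · exact chkList_get _ _ _ st84 29554 st84_ok.1 k (by omega) (by rw [st84_ok.2]; omega)
  by_cases c85 : k < 30066
  · exact chkList_get _ _ _ st85 29810 st85_ok.1 k (by omega) (by rw [st85_ok.2]; omega)
  by_cases c86 : k < 30322
  · exact chkList_get _ _ _ st86 30066 st86_ok.1 k (by omega) (by rw [st86_ok.2]; omega)
  by_cases c87 : k < 30578
  · exact chkList_get _ _ _ st87 30322 st87_ok.1 k (by omega) (by rw [st87_ok.2]; omega)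
  by_cases c88 : k < 30834
  · exact chkList_get _ _ _ st88 30578 st88_ok.1 k (by omega) (by rw [st88_ok.2]; omega)
  by_cases c89 : k < 31090
  · exact chkList_get _ _ _ st89 30834 st89_ok.1 k (by omega) (by rw [st89_ok.2]; omega)
  by_cases c90 : k < 31346
  · exact chkList_get _ _ _ st90 31090 st90_ok.1 k (by omega) (by rw [st90_ok.2]; omega)
  by_cases c91 : k < 31602
  · exact chkList_get _ _ _ st91 31346 st91_ok.1 k (by omega) (by rw [st91_ok.2]; omega)
  by_cases c92 : k < 31631
  · exact chkList_get _ _ _ st92 31602 st92_ok.1 k (by omega) (by rw [st92_ok.2]; omega)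
  omega

end H29.CosetCert.Fi22Lvl0
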