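import Cfsg.Agent.H29.CosetCert.Fi22Order.L7

/-! Certificate data for the order of Fi22, produced outside Lean and checked here. -/

set_option autoImplicit false
set_option maxRecDepth 16000
set_option Elab.async false

namespace H29.CosetCert.Fi22Lvl7

open H29.CosetCert

theorem deds : ∀ k, lvl.nd ≤ k → k < lvl.N → ∃ s, chkDed lvl.F lvl.R lvl.S k s = true := by
  intro k h1 h2
  change 1 ≤ k at h1
  change k < 1 at h2
  omega

end H29.CosetCert.Fi22Lvl7
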