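import Cfsg.Agent.H29.CosetCert.Fi22Order.Slp
import Cfsg.Agent.H29.CosetCert.Fi22.Table

/-! Certificate data for the order of Fi22, produced outside Lean and checked here. -/

set_option autoImplicit false
set_option maxRecDepth 16000
set_option Elab.async false

namespace H29.CosetCert.Fi22Slp

open H29.CosetCert

theorem entry2 : slp.entryOK Fi22Data.T 3510 2 = true := by decide +kernel

theorem entry6 : slp.entryOK Fi22Data.T 3510 6 = true := by decide +kernel

theorem entry13 : slp.entryOK Fi22Data.T 3510 13 = true := by decide +kernel

theorem entry16 : slp.entryOK Fi22Data.T 3510 16 = true := by decide +kernel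

theorem entry24 : slp.entryOK Fi22Data.T 3510 24 = true := by decide +kernel

theorem entry26 : slp.entryOK Fi22Data.T 3510 26 = true := by decide +kernel

theorem entry28 : slp.entryOK Fi22Data.T 3510 28 = true := by decide +kernel

theorem entry35 : slp.entryOK Fi22Data.T 3510 35 = true := by decide +kernel

theorem entry36 : slp.entryOK Fi22Data.T 3510 36 = true := by decide +kernel

theorem entry40 : slp.entryOK Fi22Data.T 3510 40 = true := by decide +kernel

theorem entry44 : slp.entryOK Fi22Data.T 3510 44 = true := by decide +kernel

theorem entry48 : slp.entryOK Fi22Data.T 3510 48 = true := by decide +kernel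

theorem entry52 : slp.entryOK Fi22Data.T 3510 52 = true := by decide +kernel

end H29.CosetCert.Fi22Slp
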