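import Cfsg.Agent.H29.CosetCert.Fi22Order.Slp
import Cfsg.Agent.H29.CosetCert.Fi22.Table

/-! Certificate data for the order of Fi22, produced outside Lean and checked here. -/

set_option autoImplicit false
set_option maxRecDepth 16000
set_option Elab.async false

namespace H29.CosetCert.Fi22Slp

open H29.CosetCert

theorem entry0 : slp.entryOK Fi22Data.T 3510 0 = true := by decide +kernel

theorem entry3 : slp.entryOK Fi22Data.T 3510 3 = true := by decide +kernel

theorem entry7 : slp.entryOK Fi22Data.T 3510 7 = true := by decide +kernel

theorem entry9 : slp.entryOK Fi22Data.T 3510 9 = true := by decide +kernel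

theorem entry11 : slp.entryOK Fi22Data.T 3510 11 = true := by decide +kernel

theorem entry14 : slp.entryOK Fi22Data.T 3510 14 = true := by decide +kernel

theorem entry19 : slp.entryOK Fi22Data.T 3510 19 = true := by decide +kernel

theorem entry22 : slp.entryOK Fi22Data.T 3510 22 = true := by decide +kernel

theorem entry32 : slp.entryOK Fi22Data.T 3510 32 = true := by decide +kernel

theorem entry38 : slp.entryOK Fi22Data.T 3510 38 = true := by decide +kernel

theorem entry42 : slp.entryOK Fi22Data.T 3510 42 = true := by decide +kernel

theorem entry46 : slp.entryOK Fi22Data.T 3510 46 = true := by decide +kernel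

theorem entry50 : slp.entryOK Fi22Data.T 3510 50 = true := by decide +kernel

end H29.CosetCert.Fi22Slp
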