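import Cfsg.Agent.H29.CosetCert.Fi22Order.Slp
import Cfsg.Agent.H29.CosetCert.Fi22.Table

/-! Certificate data for the order of Fi22, produced outside Lean and checked here. -/

set_option autoImplicit false
set_option maxRecDepth 16000
set_option Elab.async false

namespace H29.CosetCert.Fi22Slp

open H29.CosetCert

theorem entry4 : slp.entryOK Fi22Data.T 3510 4 = true := by decide +kernel

theorem entry8 : slp.entryOK Fi22Data.T 3510 8 = true := by decide +kernel

theorem entry15 : slp.entryOK Fi22Data.T 3510 15 = true := by decide +kernel

theorem entry18 : slp.entryOK Fi22Data.T 3510 18 = true := by decide +kernel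

theorem entry20 : slp.entryOK Fi22Data.T 3510 20 = true := by decide +kernel

theorem entry23 : slp.entryOK Fi22Data.T 3510 23 = true := by decide +kernel

theorem entry29 : slp.entryOK Fi22Data.T 3510 29 = true := by decide +kernel

theorem entry30 : slp.entryOK Fi22Data.T 3510 30 = true := by decide +kernel

theorem entry31 : slp.entryOK Fi22Data.T 3510 31 = true := by decide +kernel

theorem entry33 : slp.entryOK Fi22Data.T 3510 33 = true := by decide +kernel

theorem entry34 : slp.entryOK Fi22Data.T 3510 34 = true := by decide +kernel

theorem entry37 : slp.entryOK Fi22Data.T 3510 37 = true := by decide +kernel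

theorem entry41 : slp.entryOK Fi22Data.T 3510 41 = true := by decide +kernel

theorem entry45 : slp.entryOK Fi22Data.T 3510 45 = true := by decide +kernel

theorem entry49 : slp.entryOK Fi22Data.T 3510 49 = true := by decide +kernel

theorem entry53 : slp.entryOK Fi22Data.T 3510 53 = true := by decide +kernel

end H29.CosetCert.Fi22Slp
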