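import Cfsg.Agent.H29.CosetCert.Fi22Order.Slp

/-! Certificate data for the order of Fi22, produced outside Lean and checked here. -/

set_option autoImplicit false
set_option maxRecDepth 16000
set_option Elab.async false

namespace H29.CosetCert.Fi22Slp

open H29.CosetCert

theorem chain_ok : chainOK slp 3510 chain = true := by decide +kernel

theorem items_ok : normOK slp 3510 items [elt] = true := by decide +kernel

theorem pow_ok : allIn (fun c => runR slp.tbl (List.replicate 13 elt) c == c) 0 3510 = true := by
  decide +kernel

end H29.CosetCert.Fi22Slp
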