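import Cfsg.Agent.H29.CosetCert.Fi22O.Cert
import Cfsg.Agent.H29.CosetCert.Fi22.Cert
import Cfsg.Agent.H29.CosetCert.Fi22.Orbits
import Cfsg.Agent.H29.CosetCert.Fi22Order.SlpAll
import Cfsg.Agent.H29.CosetCert.Fi22Order.L0Deds
import Cfsg.Agent.H29.CosetCert.Fi22Order.L1Deds
import Cfsg.Agent.H29.CosetCert.Fi22Order.L2Deds
import Cfsg.Agent.H29.CosetCert.Fi22Order.L3Deds
import Cfsg.Agent.H29.CosetCert.Fi22Order.L4Deds
import Cfsg.Agent.H29.CosetCert.Fi22Order.L5Deds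
import Cfsg.Agent.H29.CosetCert.Fi22Order.L6Deds
import Cfsg.Agent.H29.CosetCert.Fi22Order.L7Deds

/-! Order and simplicity of the presented group Fi22. -/

set_option autoImplicit false

namespace H29.CosetCert.Fi22Ord

open H29.CosetCert

theorem bound7 : (maskGroup Fi22Cert.g 4 : Set Cfsg.Spor.Fi22).Finite ∧
    (maskGroup Fi22Cert.g 4 : Set Cfsg.Spor.Fi22).ncard ≤ 2 := by
  obtain ⟨hf, hb⟩ : (maskGroup Fi22Cert.g 0 : Set Cfsg.Spor.Fi22).Finite ∧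
      (maskGroup Fi22Cert.g 0 : Set Cfsg.Spor.Fi22).ncard ≤ 1 := card_maskGroup_zero _
  exact card_maskGroup_le Fi22Cert.g (genAt_sq _ _ Fi22Cert.L Fi22Cert.L_nodes) Fi22Lvl7.lvl
    (rels_of_classified _ _ Fi22Cert.L Fi22Cert.L_all Fi22Cert.L_nodes (E := Fi22Cert.E) (by decide +kernel) Fi22Cert.E_gen)
    Fi22Lvl7.words_ok Fi22Lvl7.defs_ok Fi22Lvl7.deds Fi22Lvl7.node0 (show 0 < 2 by norm_num) Fi22Lvl7.closed
    (b := 1) hf hb

theorem bound6 : (maskGroup Fi22Cert.g 12 : Set Cfsg.Spor.Fi22).Finite ∧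
    (maskGroup Fi22Cert.g 12 : Set Cfsg.Spor.Fi22).ncard ≤ 6 := by
  obtain ⟨hf, hb⟩ : (maskGroup Fi22Cert.g 4 : Set Cfsg.Spor.Fi22).Finite ∧
      (maskGroup Fi22Cert.g 4 : Set Cfsg.Spor.Fi22).ncard ≤ 2 := bound7
  exact card_maskGroup_le Fi22Cert.g (genAt_sq _ _ Fi22Cert.L Fi22Cert.L_nodes) Fi22Lvl6.lvl
    (rels_of_classified _ _ Fi22Cert.L Fi22Cert.L_all Fi22Cert.L_nodes (E := Fi22Cert.E) (by decide +kernel) Fi22Cert.E_gen)
    Fi22Lvl6.words_ok Fi22Lvl6.defs_ok Fi22Lvl6.deds Fi22Lvl6.node0 (show 0 < 3 by norm_num) Fi22Lvl6.closed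
    (b := 2) hf hb

theorem bound5 : (maskGroup Fi22Cert.g 28 : Set Cfsg.Spor.Fi22).Finite ∧
    (maskGroup Fi22Cert.g 28 : Set Cfsg.Spor.Fi22).ncard ≤ 24 := by
  obtain ⟨hf, hb⟩ : (maskGroup Fi22Cert.g 12 : Set Cfsg.Spor.Fi22).Finite ∧
      (maskGroup Fi22Cert.g 12 : Set Cfsg.Spor.Fi22).ncard ≤ 6 := bound6
  exact card_maskGroup_le Fi22Cert.g (genAt_sq _ _ Fi22Cert.L Fi22Cert.L_nodes) Fi22Lvl5.lvl
    (rels_of_classified _ _ Fi22Cert.L Fi22Cert.L_all Fi22Cert.L_nodes (E := Fi22Cert.E) (by decide +kernel) Fi22Cert.E_gen)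
    Fi22Lvl5.words_ok Fi22Lvl5.defs_ok Fi22Lvl5.deds Fi22Lvl5.node0 (show 0 < 4 by norm_num) Fi22Lvl5.closed
    (b := 6) hf hb

theorem bound4 : (maskGroup Fi22Cert.g 156 : Set Cfsg.Spor.Fi22).Finite ∧
    (maskGroup Fi22Cert.g 156 : Set Cfsg.Spor.Fi22).ncard ≤ 192 := by
  obtain ⟨hf, hb⟩ : (maskGroup Fi22Cert.g 28 : Set Cfsg.Spor.Fi22).Finite ∧
      (maskGroup Fi22Cert.g 28 : Set Cfsg.Spor.Fi22).ncard ≤ 24 := bound5
  exact card_maskGroup_le Fi22Cert.g (genAt_sq _ _ Fi22Cert.L Fi22Cert.L_nodes) Fi22Lvl4.lvl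
    (rels_of_classified _ _ Fi22Cert.L Fi22Cert.L_all Fi22Cert.L_nodes (E := Fi22Cert.E) (by decide +kernel) Fi22Cert.E_gen)
    Fi22Lvl4.words_ok Fi22Lvl4.defs_ok Fi22Lvl4.deds Fi22Lvl4.node0 (show 0 < 8 by norm_num) Fi22Lvl4.closed
    (b := 24) hf hb

theorem bound3 : (maskGroup Fi22Cert.g 158 : Set Cfsg.Spor.Fi22).Finite ∧
    (maskGroup Fi22Cert.g 158 : Set Cfsg.Spor.Fi22).ncard ≤ 1920 := by
  obtain ⟨hf, hb⟩ : (maskGroup Fi22Cert.g 156 : Set Cfsg.Spor.Fi22).Finite ∧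
      (maskGroup Fi22Cert.g 156 : Set Cfsg.Spor.Fi22).ncard ≤ 192 := bound4
  exact card_maskGroup_le Fi22Cert.g (genAt_sq _ _ Fi22Cert.L Fi22Cert.L_nodes) Fi22Lvl3.lvl
    (rels_of_classified _ _ Fi22Cert.L Fi22Cert.L_all Fi22Cert.L_nodes (E := Fi22Cert.E) (by decide +kernel) Fi22Cert.E_gen)
    Fi22Lvl3.words_ok Fi22Lvl3.defs_ok Fi22Lvl3.deds Fi22Lvl3.node0 (show 0 < 10 by norm_num) Fi22Lvl3.closed
    (b := 192) hf hb

theorem bound2 : (maskGroup Fi22Cert.g 190 : Set Cfsg.Spor.Fi22).Finite ∧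
    (maskGroup Fi22Cert.g 190 : Set Cfsg.Spor.Fi22).ncard ≤ 51840 := by
  obtain ⟨hf, hb⟩ : (maskGroup Fi22Cert.g 158 : Set Cfsg.Spor.Fi22).Finite ∧
      (maskGroup Fi22Cert.g 158 : Set Cfsg.Spor.Fi22).ncard ≤ 1920 := bound3
  exact card_maskGroup_le Fi22Cert.g (genAt_sq _ _ Fi22Cert.L Fi22Cert.L_nodes) Fi22Lvl2.lvl
    (rels_of_classified _ _ Fi22Cert.L Fi22Cert.L_all Fi22Cert.L_nodes (E := Fi22Cert.E) (by decide +kernel) Fi22Cert.E_gen)
    Fi22Lvl2.words_ok Fi22Lvl2.defs_ok Fi22Lvl2.deds Fi22Lvl2.node0 (show 0 < 27 by norm_num) Fi22Lvl2.closed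
    (b := 1920) hf hb

theorem bound1 : (maskGroup Fi22Cert.g 254 : Set Cfsg.Spor.Fi22).Finite ∧
    (maskGroup Fi22Cert.g 254 : Set Cfsg.Spor.Fi22).ncard ≤ 1451520 := by
  obtain ⟨hf, hb⟩ : (maskGroup Fi22Cert.g 190 : Set Cfsg.Spor.Fi22).Finite ∧
      (maskGroup Fi22Cert.g 190 : Set Cfsg.Spor.Fi22).ncard ≤ 51840 := bound2
  exact card_maskGroup_le Fi22Cert.g (genAt_sq _ _ Fi22Cert.L Fi22Cert.L_nodes) Fi22Lvl1.lvl
    (rels_of_classified _ _ Fi22Cert.L Fi22Cert.L_all Fi22Cert.L_nodes (E := Fi22Cert.E) (by decide +kernel) Fi22Cert.E_gen)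
    Fi22Lvl1.words_ok Fi22Lvl1.defs_ok Fi22Lvl1.deds Fi22Lvl1.node0 (show 0 < 28 by norm_num) Fi22Lvl1.closed
    (b := 51840) hf hb

theorem bound0 : (maskGroup Fi22Cert.g 510 : Set Cfsg.Spor.Fi22).Finite ∧
    (maskGroup Fi22Cert.g 510 : Set Cfsg.Spor.Fi22).ncard ≤ 4585351680 := by
  obtain ⟨hf, hb⟩ : (maskGroup Fi22Cert.g 254 : Set Cfsg.Spor.Fi22).Finite ∧
      (maskGroup Fi22Cert.g 254 : Set Cfsg.Spor.Fi22).ncard ≤ 1451520 := bound1
  exact card_maskGroup_le Fi22Cert.g (genAt_sq _ _ Fi22Cert.L Fi22Cert.L_nodes) Fi22Lvl0.lvl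
    (rels_of_classified _ _ Fi22Cert.L Fi22Cert.L_all Fi22Cert.L_nodes (E := Fi22Cert.E) (by decide +kernel) Fi22Cert.E_gen)
    Fi22Lvl0.words_ok Fi22Lvl0.defs_ok Fi22Lvl0.deds Fi22Lvl0.node0 (show 0 < 3159 by norm_num) Fi22Lvl0.closed
    (b := 1451520) hf hb

theorem mask_eq : maskGroup Fi22Cert.g 510 = Fi22OCert.H := by
  refine congrArg Subgroup.closure (Set.ext fun e => ?_)
  constructor
  · rintro ⟨x, hx, rfl⟩
    have hlt : x < 9 := by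
      by_contra h
      rw [Nat.testBit_lt_two_pow (lt_of_lt_of_le (show 510 < 2 ^ 9 by norm_num)
        (Nat.pow_le_pow_right (by norm_num) (by omega)))] at hx
      simp at hx
    interval_cases x <;> first
      | (simp [Nat.testBit, Nat.shiftRight_eq_div_pow] at hx; done)
      | (simp [Fi22OData.S, Fi22Cert.g, Fi22OCert.g, genAt])
  · intro he
    simp [Fi22OData.S, Fi22OCert.g, genAt] at he
    rcases he with rfl | rfl | rfl | rfl | rfl | rfl | rfl | rfl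
    · exact ⟨1, by decide, rfl⟩
    · exact ⟨2, by decide, rfl⟩
    · exact ⟨3, by decide, rfl⟩
    · exact ⟨4, by decide, rfl⟩
    · exact ⟨5, by decide, rfl⟩
    · exact ⟨6, by decide, rfl⟩
    · exact ⟨7, by decide, rfl⟩
    · exact ⟨8, by decide, rfl⟩

theorem finite_card : Finite Cfsg.Spor.Fi22 ∧ Nat.card Cfsg.Spor.Fi22 ≤ 64561751654400 := by
  obtain ⟨hf, hb⟩ := bound0
  rw [mask_eq] at hf hb
  have h := Fi22OCert.H.card_mul_index
  rw [Fi22OCert.cert.index_eq, show Fi22OCert.cert.n = 14080 from rfl, ← Nat.card_coe_set_eq] at *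
  haveI : Finite Fi22OCert.H := hf.to_subtype
  haveI : Fi22OCert.H.FiniteIndex := ⟨by rw [Fi22OCert.cert.index_eq]; show 14080 ≠ 0; norm_num⟩
  refine ⟨Subgroup.finite_iff_finite_and_finiteIndex Fi22OCert.H |>.2 ⟨‹_›, ‹_›⟩, ?_⟩
  rw [← h]
  calc Nat.card Fi22OCert.H * 14080 ≤ 4585351680 * 14080 := Nat.mul_le_mul_right _ hb
    _ = 64561751654400 := by norm_num

theorem injective_card :
    Function.Injective Fi22Cert.cert.ρ ∧ Nat.card Cfsg.Spor.Fi22 = 64561751654400 := by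
  haveI := finite_card.1
  exact Fi22Cert.cert.injective_of_chain Fi22Slp.slp (by decide) Fi22Slp.entries_ok Fi22Slp.chain Fi22Slp.chain_ok
    (by decide +kernel) finite_card.2

theorem simple : IsSimpleGroup Cfsg.Spor.Fi22 := by
  haveI := finite_card.1
  haveI : Nontrivial Cfsg.Spor.Fi22 := Finite.one_lt_card_iff_nontrivial.1 (by rw [injective_card.2]; norm_num)
  obtain ⟨q₁, h₁, h₁'⟩ := Fi22Cert.cert.exists_orbit (s := 1) (by decide)
    Fi22Data.orb1_grow Fi22Data.orb1_inv Fi22Data.orb1_count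
  obtain ⟨q₂, h₂, h₂'⟩ := Fi22Cert.cert.exists_orbit (s := 6) (by decide)
    Fi22Data.orb2_grow Fi22Data.orb2_inv Fi22Data.orb2_count
  have hH : Nat.card Fi22Cert.H = 18393661440 := by
    have h := Fi22Cert.H.card_mul_index
    rw [Fi22Cert.cert.index_eq, show Fi22Cert.cert.n = 3510 from rfl, injective_card.2] at h
    exact Nat.eq_of_mul_eq_mul_right (show 0 < 3510 by norm_num) (h.trans (by norm_num))
  exact Fi22Cert.cert.isSimpleGroup_of_checks Fi22Slp.slp injective_card.1 rfl (by decide) Fi22Slp.entries_ok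
    h₁ h₁' h₂ h₂' (by decide +kernel) (by decide +kernel) (by decide +kernel) (by decide) (by decide)
    (show Fi22Slp.elt < Fi22Slp.slp.K by decide) (by rw [hH]; decide +kernel) Fi22Slp.pow_ok Fi22Slp.items Fi22Slp.items_ok

end H29.CosetCert.Fi22Ord
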