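import Cfsg.Agent.H29.CosetCert.Upper
import Cfsg.Agent.H29.CosetCert.Pick16

/-! Certificate data for the order of Fi22, produced outside Lean and checked here. -/

set_option autoImplicit false
set_option maxRecDepth 16000
set_option Elab.async false

namespace H29.CosetCert.Fi22Lvl3

open H29.CosetCert

/-- The facts. -/
noncomputable def facts : Tr :=
(.node
(.node
(.leaf 0x170001000014000100001300010000070000000004000000000300000000020000000081000900007200080000630007000054000600003700050000340004000023000300001200020000010001)
(.leaf 0x9200090000970009000094000900009300090000830008000087000800008400080000770007))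
(.node
(.leaf 0x740007000071000700006200060000610006000053000500005200050000510005000043000400006700040000420004000041000400003200030000310003000021000200002700020000240002)
(.leaf 0)))

/-- Row. -/
noncomputable def row1 : Tr :=
(.node
(.leaf 0x8000900070006000500040003000200000001)
(.leaf 0))

/-- Edges. -/
noncomputable def edge1 : Tr :=
(.node
(.leaf 0x11000100003d00039000330002b00027000250000100000)
(.leaf 0))

/-- Row. -/
noncomputable def row2 : Tr :=
(.node
(.leaf 0x9000700080006000500040003000100020000)
(.leaf 0))

/-- Edges. -/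
noncomputable def edge2 : Tr :=
(.node
(.leaf 0x4f0000f0000e0003b000350002d00029000030000200013)
(.leaf 0))

/-- Row. -/
noncomputable def row3 : Tr :=
(.node
(.leaf 0x9000800060007000500040002000300010000)
(.leaf 0))

/-- Edges. -/
noncomputable def edge3 : Tr :=
(.node
(.leaf 0x49000470000d0000c000370003100005000040001b00015)
(.leaf 0))

/-- Row. -/
noncomputable def row4 : Tr :=
(.node
(.leaf 0x9000800070005000600030004000200010000)
(.leaf 0))

/-- Edges. -/
noncomputable def edge4 : Tr :=
(.node
(.leaf 0x4b000430003f0000b0000a0000700006000210001d00017)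
(.leaf 0))

/-- Row. -/
noncomputable def row7 : Tr :=
(.node
(.leaf 0x9000800070004000300060005000200010000)
(.leaf 0))

/-- Edges. -/
noncomputable def edge7 : Tr :=
(.node
(.leaf 0x4d00045000410002e000090002f00008000230001f00019)
(.leaf 0))

/-- Table rows. -/
noncomputable def rows : List Tr := [(.leaf 0), row1, row2, row3, row4, (.leaf 0), (.leaf 0), row7, (.leaf 0)]

/-- Edge rows. -/
noncomputable def edges : List Tr := [(.leaf 0), edge1, edge2, edge3, edge4, (.leaf 0), (.leaf 0), edge7, (.leaf 0)]

/-- The level. -/
noncomputable def lvl : Lvl where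
  mask := 158
  sub := 156
  n := 10
  R := [[1, 2, 1, 2, 1, 2],
  [1, 3, 1, 3],
  [1, 4, 1, 4],
  [1, 7, 1, 7],
  [2, 3, 2, 3, 2, 3],
  [2, 4, 2, 4],
  [2, 7, 2, 7],
  [3, 4, 3, 4, 3, 4],
  [3, 7, 3, 7, 3, 7],
  [4, 7, 4, 7],
  [1, 1],
  [2, 2],
  [3, 3],
  [4, 4],
  [7, 7],
  []]
  S := [[2], [3], [4], [7]]
  F := factAt facts
  nd := 9
  N := 40
  T x c := pick16 (rows.getD x (.leaf 0)) c
  nodeOf c := pick20 (.node
(.leaf 0x9000080000700006000050000400003000020000100000)
(.leaf 0)) c
  edge x c := pick20 (edges.getD x (.leaf 0)) c

theorem words_ok : lvl.wordsOK = true := by decide +kernel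

theorem defs_ok : allIn (chkDef lvl.F) 0 lvl.nd = true := by decide +kernel

theorem node0 : lvl.nodeOf 0 = 0 := by decide +kernel

theorem closed0 : allIn lvl.closedAt 0 10 = true := by decide +kernel

theorem closed : allIn lvl.closedAt 0 10 = true := by
  rw [allIn_iff]
  intro c _ hc
  by_cases h0 : c < 10
  · exact (allIn_iff _ _ _).1 closed0 c (by omega) (by omega)
  omega

end H29.CosetCert.Fi22Lvl3
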