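import Cfsg.Agent.H29.CosetCert.Fi22Order.L3

/-! Certificate data for the order of Fi22, produced outside Lean and checked here. -/

set_option autoImplicit false
set_option maxRecDepth 16000
set_option Elab.async false

namespace H29.CosetCert.Fi22Lvl3

open H29.CosetCert

/-- Steps. -/
noncomputable def st0 : List ℕ :=
  [16,
  17,
  18,
  19,
  0x150000100000000030000100001,
  0x170000100000000030000100002,
  0x190000100000000030000100003,
  0x20001d0000300000000030000200005,
  0x20001f0000300000000030000200006,
  0x20000000013000010000300005000000000200000,
  0x4000250000500003000000000300001,
  0x4000020001b000030000500005000000000300004,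
  0x6000270000700003000000000400002,
  0x6000290000700003000000000400005,
  0xa000080000700000000030000400009,
  0x60000400021000050000700005000000000400007,
  0x8000270000900003000000000500003,
  0x8000290000900003000000000500006,
  0x80000400023000050000900005000000000500008,
  0xa000330000b00003000000000600002,
  0xa000350000b00003000000000600005,
  0xc000390000d00003000000000700001,
  0xc0000a000370000b0000d00000000050000700007,
  0xc0002f000310002e0000d00000000050000700008,
  0xe0003f0000f00000000030000800005,
  0xe000410000f00000000030000800006,
  0xe0000c0003b0000d0000f00000000050000800004,
  0x10000470001100000000030000900001,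
  0x10000430001100000000030000900002,
  0x10000450001100000000030000900003,
  0x100000e0003d0000f0001100000000050000900000]

theorem st0_ok : chkList lvl.F lvl.R lvl.S st0 9 = true ∧ st0.length = 31 := by
  decide +kernel

end H29.CosetCert.Fi22Lvl3
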