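import Cfsg.Agent.H29.CosetCert.Upper
import Cfsg.Agent.H29.CosetCert.Pick16

/-! Certificate data for the order of Fi22, produced outside Lean and checked here. -/

set_option autoImplicit false
set_option maxRecDepth 16000
set_option Elab.async false

namespace H29.CosetCert.Fi22Lvl4

open H29.CosetCert

/-- The facts. -/
noncomputable def facts : Tr :=
(.node
(.leaf 0x570005000037000300005400030000270002000014000100001200010000040000000003000000000200000000670007000053000600004200050000240004000022000300001300020000070001)
(.leaf 0x7300070000740007000072000700006400060000620006000043000400004700040000330003))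

/-- Row. -/
noncomputable def row2 : Tr :=
(.node
(.leaf 0x70006000400050002000300010000)
(.leaf 0))

/-- Edges. -/
noncomputable def edge2 : Tr :=
(.node
(.leaf 0x2b0002700009000080000500004000150000f)
(.leaf 0))

/-- Row. -/
noncomputable def row3 : Tr :=
(.node
(.leaf 0x70005000600040003000100020000)
(.leaf 0))

/-- Edges. -/
noncomputable def edge3 : Tr :=
(.node
(.leaf 0x2f0000b0000a0002500021000030000200011)
(.leaf 0))

/-- Row. -/
noncomputable def row4 : Tr :=
(.node
(.leaf 0x70006000300020005000400010000)
(.leaf 0))

/-- Edges. -/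
noncomputable def edge4 : Tr :=
(.node
(.leaf 0x2d000290001a000070001b000060001700013)
(.leaf 0))

/-- Row. -/
noncomputable def row7 : Tr :=
(.node
(.leaf 0x60007000500040003000200000001)
(.leaf 0))

/-- Edges. -/
noncomputable def edge7 : Tr :=
(.node
(.leaf 0xd0000c0001f000230001d000190000100000)
(.leaf 0))

/-- Table rows. -/
noncomputable def rows : List Tr := [(.leaf 0), (.leaf 0), row2, row3, row4, (.leaf 0), (.leaf 0), row7, (.leaf 0)]

/-- Edge rows. -/
noncomputable def edges : List Tr := [(.leaf 0), (.leaf 0), edge2, edge3, edge4, (.leaf 0), (.leaf 0), edge7, (.leaf 0)]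

/-- The level. -/
noncomputable def lvl : Lvl where
  mask := 156
  sub := 28
  n := 8
  R := [[2, 3, 2, 3, 2, 3],
  [2, 4, 2, 4],
  [2, 7, 2, 7],
  [3, 4, 3, 4, 3, 4],
  [3, 7, 3, 7, 3, 7],
  [4, 7, 4, 7],
  [2, 2],
  [3, 3],
  [4, 4],
  [7, 7],
  []]
  S := [[2], [3], [4]]
  F := factAt facts
  nd := 7
  N := 24
  T x c := pick16 (rows.getD x (.leaf 0)) c
  nodeOf c := pick20 (.node
(.leaf 0x700006000050000400003000020000100000)
(.leaf 0)) c
  edge x c := pick20 (edges.getD x (.leaf 0)) c

theorem words_ok : lvl.wordsOK = true := by decide +kernel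

theorem defs_ok : allIn (chkDef lvl.F) 0 lvl.nd = true := by decide +kernel

theorem node0 : lvl.nodeOf 0 = 0 := by decide +kernel

theorem closed0 : allIn lvl.closedAt 0 8 = true := by decide +kernel

theorem closed : allIn lvl.closedAt 0 8 = true := by
  rw [allIn_iff]
  intro c _ hc
  by_cases h0 : c < 8
  · exact (allIn_iff _ _ _).1 closed0 c (by omega) (by omega)
  omega

end H29.CosetCert.Fi22Lvl4
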