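import Cfsg.Agent.H29.CosetCert.Fi22Order.L5

/-! Certificate data for the order of Fi22, produced outside Lean and checked here. -/

set_option autoImplicit false
set_option maxRecDepth 16000
set_option Elab.async false

namespace H29.CosetCert.Fi22Lvl5

open H29.CosetCert

/-- Steps. -/
noncomputable def st0 : List ℕ :=
  [7,
  8,
  0x70000100003000000000100001,
  0x20000000009000010000300000000050000200002,
  0x40000d0000500000000030000300001,
  0x4000020000b000030000500000000050000300000]

theorem st0_ok : chkList lvl.F lvl.R lvl.S st0 3 = true ∧ st0.length = 6 := by
  decide +kernel

end H29.CosetCert.Fi22Lvl5
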