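import Cfsg.Agent.H29.CosetCert.Fi22Order.Slp
import Cfsg.Agent.H29.CosetCert.Fi22.Table

/-! Certificate data for the order of Fi22, produced outside Lean and checked here. -/

set_option autoImplicit false
set_option maxRecDepth 16000
set_option Elab.async false

namespace H29.CosetCert.Fi22Slp

open H29.CosetCert

theorem entry1 : slp.entryOK Fi22Data.T 3510 1 = true := by decide +kernel

theorem entry5 : slp.entryOK Fi22Data.T 3510 5 = true := by decide +kernel

theorem entry10 : slp.entryOK Fi22Data.T 3510 10 = true := by decide +kernel

theorem entry12 : slp.entryOK Fi22Data.T 3510 12 = true := by decide +kernel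

theorem entry17 : slp.entryOK Fi22Data.T 3510 17 = true := by decide +kernel

theorem entry21 : slp.entryOK Fi22Data.T 3510 21 = true := by decide +kernel

theorem entry25 : slp.entryOK Fi22Data.T 3510 25 = true := by decide +kernel

theorem entry27 : slp.entryOK Fi22Data.T 3510 27 = true := by decide +kernel

theorem entry39 : slp.entryOK Fi22Data.T 3510 39 = true := by decide +kernel

theorem entry43 : slp.entryOK Fi22Data.T 3510 43 = true := by decide +kernel

theorem entry47 : slp.entryOK Fi22Data.T 3510 47 = true := by decide +kernel

theorem entry51 : slp.entryOK Fi22Data.T 3510 51 = true := by decide +kernel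

end H29.CosetCert.Fi22Slp
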